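import Groth.Prelude.Def_CechEdge
import Groth.Agent.Lib.GrothSS.CechPsh
import Mathlib.Algebra.Homology.HomologySequenceLemmas
import Mathlib.Algebra.Homology.ShortComplex.Ab

/-! # The comparison from Čech cohomology to cohomology as a map of δ-functors -/

set_option autoImplicit false

universe u

open CategoryTheory CategoryTheory.Limits Opposite Abelian

namespace GrothLib.CechEdge25

open GrothLib

attribute [local instance] SheafCoh.enoughInjectivesPsh

variable {C : Type u} [SmallCategory C] [HasPullbacks C] {U : C} {ι : Type u} (Y : ι → Over U)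


/-! ### degree zero -/

theorem pev_toCech₀ (P : Cᵒᵖ ⥤ AddCommGrpCat.{u}) (a : Fin 1 → ι) (s : P.obj (op U)) :
    GrothSS.pev Y P a (CechEdge.toCech₀ P Y s) = P.map (Cech.obj Y a).hom.op s :=
  ConcreteCategory.congr_hom
    (Pi.lift_π (fun (i : Fin 1 → ι) => P.map (∏ᶜ (Y ∘ i)).hom.op) a) s

theorem toCech_natural {P Q : Cᵒᵖ ⥤ AddCommGrpCat.{u}} (φ : P ⟶ Q) (s : P.obj (op U)) :
    CechEdge.cechHMap Y φ 0 (CechEdge.toCech Y P s) = CechEdge.toCech Y Q (φ.app (op U) s) := by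
  change ((CechEdge.toCycles P Y ≫ (CechEdge.cx P Y).homologyπ 0) ≫
      HomologicalComplex.homologyMap ((CechEdge.cxFunctor Y).map φ) 0) s =
    (φ.app (op U) ≫ CechEdge.toCycles Q Y ≫ (CechEdge.cx Q Y).homologyπ 0) s
  congr 1
  congr 1
  rw [Category.assoc]
  change CechEdge.toCycles P Y ≫ ((CechEdge.cxFunctor Y).obj P).homologyπ 0 ≫ _ = _
  rw [HomologicalComplex.homologyπ_naturality, ← Category.assoc, ← Category.assoc]
  congr 1
  rw [← cancel_mono (HomologicalComplex.iCycles _ _), Category.assoc, Category.assoc,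
    HomologicalComplex.cyclesMap_i]
  change CechEdge.toCycles P Y ≫ (CechEdge.cx P Y).iCycles 0 ≫ _ = φ.app (op U) ≫ _ ≫ _
  rw [← Category.assoc (CechEdge.toCycles P Y)]
  refine Eq.trans (congrArg (· ≫ _) (CechEdge.toCycles_i P Y))
    (Eq.trans ?_ (congrArg (φ.app (op U) ≫ ·) (CechEdge.toCycles_i Q Y)).symm)
  ext t
  refine GrothSS.pext Y fun a => ?_
  change GrothSS.pev Y Q a (((GrothSS.cechPsh Y).map φ).f 0 (CechEdge.toCech₀ P Y t)) =
    GrothSS.pev Y Q a (CechEdge.toCech₀ Q Y (φ.app (op U) t))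
  rw [GrothSS.cech_ev_map, pev_toCech₀, pev_toCech₀]
  exact ConcreteCategory.congr_hom (φ.naturality _) t

theorem exists_aug_godement (A : Over U → AddCommGrpCat.{u})
    (c : (Cech.cx Y (Cech.godement A)).X 0) (hc : (Cech.cx Y (Cech.godement A)).d 0 1 c = 0) :
    ∃ s : (Cech.godement A).obj (op (Over.mk (𝟙 U))), ∀ a : Fin 1 → ι,
      Cech.ev Y _ a c = (Cech.godement A).map (Over.homMk (Cech.obj Y a).hom : Cech.obj Y a ⟶ Over.mk (𝟙 U)).op s := by
  classical
  let s : (Cech.godement A).obj (op (Over.mk (𝟙 U))) := fun V _ =>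
    if h : Nonempty (Σ i : ι, (V ⟶ Y i)) then Cech.hat Y A c (fun _ : Fin (0 + 1) => h.some) else 0
  refine ⟨s, fun a => Cech.gEval_ext A fun V g => ?_⟩
  let t₁ : Σ i : ι, (V ⟶ Y i) := ⟨a 0, g ≫ Pi.π (fun k => Y (a k)) 0⟩
  rw [Cech.gEval_map]
  change _ = dite _ _ _
  rw [dif_pos ⟨t₁⟩]
  generalize (Nonempty.some (_ : Nonempty (Σ i : ι, (V ⟶ Y i)))) = t₀
  have h := Cech.hat_d Y A c (Fin.cons t₀ (fun _ : Fin (0 + 1) => t₁))
  have h0 : Cech.hat Y A (0 : (Cech.cx Y (Cech.godement A)).X 1) (Fin.cons t₀ (fun _ : Fin (0 + 1) => t₁)) = 0 := by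
    rw [Cech.hat, map_zero]
    rfl
  rw [hc, h0, Fin.sum_univ_two] at h
  simp only [Fin.val_zero, pow_zero, one_smul, Fin.val_one, pow_one, neg_smul] at h
  have e1 : (fun l : Fin (0 + 1) => (Fin.cons t₀ (fun _ : Fin (0 + 1) => t₁) : Fin 2 → _) ((0 : Fin 2).succAbove l)) =
      fun _ => t₁ := funext fun l => by rw [Fin.succAbove_zero, Fin.cons_succ]
  have e2 : (fun l : Fin (0 + 1) => (Fin.cons t₀ (fun _ : Fin (0 + 1) => t₁) : Fin 2 → _) ((1 : Fin 2).succAbove l)) =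
      fun _ => t₀ := funext fun l => by rw [Fin.fin_one_eq_zero l]; rfl
  rw [e1, e2] at h
  refine Eq.trans ?_ (eq_of_sub_eq_zero ((sub_eq_add_neg _ _).trans h.symm))
  obtain ⟨i, rfl⟩ : ∃ i, a = fun _ => i := ⟨a 0, funext fun l => by rw [Fin.fin_one_eq_zero l]⟩
  change Cech.gEval A _ V g _ = Cech.gEval A _ V _ _
  refine congrArg (fun g => Cech.gEval A _ V g _) ?_
  refine Pi.hom_ext _ _ fun l => ?_
  obtain rfl : l = (0 : Fin (0 + 1)) := Fin.fin_one_eq_zero l
  exact (Pi.lift_π (fun _ : Fin (0 + 1) => t₁.2) 0).symm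

theorem exists_sec_of_cocycle (I : Cᵒᵖ ⥤ AddCommGrpCat.{u}) [Injective I] (c : (CechEdge.cx I Y).X 0)
    (hc : (CechEdge.cx I Y).d 0 1 c = 0) :
    ∃ s : I.obj (op U), CechEdge.toCech₀ I Y s = c := by
  let A : C → AddCommGrpCat.{u} := fun V => I.obj (op V)
  let r : Cech.godement A ⟶ I := Injective.factorThru (𝟙 I) (Cech.toGodement I)
  let a : (Over.forget U).op ⋙ I ⟶ Cech.godement (fun W : Over U => A W.left) :=
    Functor.whiskerLeft (Over.forget U).op (Cech.toGodement I) ≫ Cech.godementOverHom A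
  let b : Cech.godement (fun W : Over U => A W.left) ⟶ (Over.forget U).op ⋙ I :=
    Cech.godementOverInv A ≫ Functor.whiskerLeft (Over.forget U).op r
  have hab : a ≫ b = 𝟙 _ := by
    simp only [a, b, Category.assoc]
    rw [← Category.assoc (Cech.godementOverHom A), Cech.godementOverHom_inv, Category.id_comp,
      ← Functor.whiskerLeft_comp, Injective.comp_factorThru, Functor.whiskerLeft_id']
  let F := cechComplexFunctor (A := AddCommGrpCat.{u}) Y
  have hev : ∀ {P Q : (Over U)ᵒᵖ ⥤ AddCommGrpCat.{u}} (g : P ⟶ Q) (k : Fin 1 → ι) (x : (Cech.cx Y P).X 0),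
      Cech.ev Y Q k ((F.map g).f 0 x) = g.app (op (Cech.obj Y k)) (Cech.ev Y P k x) := fun g k x =>
    ConcreteCategory.congr_hom (Pi.map_π (fun k : Fin 1 → ι => g.app (op (Cech.obj Y k))) k) x
  obtain ⟨s', hs'⟩ := exists_aug_godement Y (fun W : Over U => A W.left) ((F.map a).f 0 c) (by
    refine (ConcreteCategory.congr_hom ((F.map a).comm 0 1) c).trans ?_
    change (F.map a).f 1 ((CechEdge.cx I Y).d 0 1 c) = 0
    rw [hc, map_zero])
  refine ⟨b.app (op (Over.mk (𝟙 U))) s', GrothSS.pext Y fun k => ?_⟩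
  rw [pev_toCech₀]
  refine Eq.trans ?_ (ConcreteCategory.congr_hom (NatTrans.congr_app hab (op (Cech.obj Y k))) (GrothSS.pev Y I k c))
  change _ = b.app _ (a.app _ (Cech.ev Y _ k c))
  rw [← hev a k c, hs' k]
  exact (ConcreteCategory.congr_hom
    (b.naturality (Over.homMk (Cech.obj Y k).hom : Cech.obj Y k ⟶ Over.mk (𝟙 U)).op) s').symm

theorem surjective_toCech_of_injective (I : Cᵒᵖ ⥤ AddCommGrpCat.{u}) [Injective I] :
    Function.Surjective (CechEdge.toCech Y I) := fun x => by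
  obtain ⟨z, rfl⟩ := (AddCommGrpCat.epi_iff_surjective ((CechEdge.cx I Y).homologyπ 0)).1 inferInstance x
  obtain ⟨s, hs⟩ := exists_sec_of_cocycle Y I ((CechEdge.cx I Y).iCycles 0 z)
    (ConcreteCategory.congr_hom ((CechEdge.cx I Y).iCycles_d 0 1) z)
  refine ⟨s, congrArg ((CechEdge.cx I Y).homologyπ 0) ?_⟩
  apply (AddCommGrpCat.mono_iff_injective ((CechEdge.cx I Y).iCycles 0)).1 inferInstance
  exact (ConcreteCategory.congr_hom (CechEdge.toCycles_i I Y) s).trans hs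

variable {J : GrothendieckTopology C}

theorem bijective_toCech_of_sheaf (hY : Sieve.ofArrows (fun i => (Y i).left) (fun i => (Y i).hom) ∈ J U)
    (F : Sheaf J AddCommGrpCat.{u}) : Function.Bijective (CechEdge.toCech Y F.obj) := by
  have hπ : ∀ (W : Over U) (i k : ι) (f : W ⟶ Y i) (g : W ⟶ Y k),
      (Over.forget U).map f ≫ (Y i).hom = (Over.forget U).map g ≫ (Y k).hom :=
    fun W i k f g => (Over.w f).trans (Over.w g).symm
  have : IsIso (Cech.augH (Over.forget U) Y (fun i => (Y i).hom) hπ F) :=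
    Cech.isIso_augH (Over.forget U) Y (fun i => (Y i).hom) hπ hY
      (fun Z i k g₁ g₂ hg => ⟨Over.mk (g₁ ≫ (Y i).hom), Over.homMk g₁, Over.homMk g₂ hg.symm, 𝟙 Z,
        Category.id_comp _, Category.id_comp _⟩) F
  have heq : Cech.aug (Over.forget U) Y (fun i => (Y i).hom) F = CechEdge.toCech₀ F.obj Y := by
    ext t
    refine GrothSS.pext Y fun a => ?_
    refine Eq.trans ?_ (pev_toCech₀ Y F.obj a t).symm
    refine (Cech.ev_aug (Over.forget U) Y (fun i => (Y i).hom) F a t).trans ?_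
    exact congrArg (fun h => F.obj.map (Quiver.Hom.op h) t) (Over.w (Pi.π (fun k => Y (a k)) 0))
  have h2 : CechEdge.toCech Y F.obj =
      (Cech.augH (Over.forget U) Y (fun i => (Y i).hom) hπ F).hom := by
    rw [CechEdge.toCech, Cech.augH]
    congr 2
    rw [← cancel_mono (HomologicalComplex.iCycles _ _)]
    exact ((CechEdge.toCycles_i F.obj Y).trans heq.symm).trans
      (HomologicalComplex.liftCycles_i ((Cech.cxFun (Over.forget U) Y J).obj F) _ _ _ _).symm
  rw [h2]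
  exact ConcreteCategory.bijective_of_isIso (Cech.augH (Over.forget U) Y (fun i => (Y i).hom) hπ F)

end GrothLib.CechEdge25

namespace GrothLib.CechEdge25

open GrothLib

attribute [local instance] SheafCoh.enoughInjectivesPsh

variable {C : Type u} [SmallCategory C] {J : GrothendieckTopology C} {U : C}

/-! ### the cohomology side -/

theorem HUmap_apply {F G : Sheaf J AddCommGrpCat.{u}} (ψ : F ⟶ G) (p : ℕ) (x : CohSite.HU F p U) :
    CechEdge.HUmap ψ p U x = x.comp (Ext.mk₀ ψ) (add_zero p) := rfl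

theorem HUmap_comp {F G H : Sheaf J AddCommGrpCat.{u}} (ψ : F ⟶ G) (χ : G ⟶ H) (p : ℕ) (x : CohSite.HU F p U) :
    CechEdge.HUmap (ψ ≫ χ) p U x = CechEdge.HUmap χ p U (CechEdge.HUmap ψ p U x) := by
  simp only [HUmap_apply, ← Ext.mk₀_comp_mk₀, Ext.comp_assoc_of_third_deg_zero]

theorem HUmap_id (F : Sheaf J AddCommGrpCat.{u}) (p : ℕ) (x : CohSite.HU F p U) :
    CechEdge.HUmap (𝟙 F) p U x = x := by
  rw [HUmap_apply]; exact Ext.comp_mk₀_id x

theorem sectH0_natural {F G : Sheaf J AddCommGrpCat.{u}} (ψ : F ⟶ G) (t : F.obj.obj (op U)) :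
    CechEdge.HUmap ψ 0 U (CechEdge.sectH0 J U F t) = CechEdge.sectH0 J U G (ψ.hom.app (op U) t) := by
  rw [HUmap_apply]
  change (Ext.mk₀ ((CohFree.homEquivSect J U F).symm t)).comp (Ext.mk₀ ψ) _ =
    Ext.mk₀ ((CohFree.homEquivSect J U G).symm _)
  rw [Ext.mk₀_comp_mk₀]
  congr 1
  apply (CohFree.homEquivSect J U G).injective
  rw [AddEquiv.apply_symm_apply]
  exact congrArg (ψ.hom.app (op U)) ((CohFree.homEquivSect J U F).apply_symm_apply t)

theorem extδ_HUmap_eq_zero {S : ShortComplex (Sheaf J AddCommGrpCat.{u})} (hS : S.ShortExact) (p : ℕ)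
    (x : CohSite.HU S.X₂ p U) : CechEdge.extδ hS U p (CechEdge.HUmap S.g p U x) = 0 := by
  change ((CechEdge.HUmap S.g p U x : Ext (CohCx.freeSheaf J U) S.X₃ p)).comp hS.extClass rfl = 0
  rw [HUmap_apply, Ext.comp_assoc_of_second_deg_zero, hS.comp_extClass, Ext.comp_zero]

theorem extδ_natural {S T : ShortComplex (Sheaf J AddCommGrpCat.{u})} (hS : S.ShortExact) (hT : T.ShortExact)
    (Φ : S ⟶ T) (p : ℕ) (x : CohSite.HU S.X₃ p U) :
    CechEdge.HUmap Φ.τ₁ (p + 1) U (CechEdge.extδ hS U p x) = CechEdge.extδ hT U p (CechEdge.HUmap Φ.τ₃ p U x) := by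
  change ((x : Ext (CohCx.freeSheaf J U) S.X₃ p).comp hS.extClass rfl).comp (Ext.mk₀ Φ.τ₁) (add_zero (p + 1)) =
    ((x : Ext (CohCx.freeSheaf J U) S.X₃ p).comp (Ext.mk₀ Φ.τ₃) (add_zero p)).comp hT.extClass rfl
  rw [Ext.comp_assoc_of_third_deg_zero, ShortComplex.ShortExact.extClass_naturality hS hT Φ,
    Ext.comp_assoc_of_second_deg_zero]

/-! ### dimension shifting on presheaves -/

variable [HasPullbacks C] {ι : Type u} (Y : ι → Over U)

/-- An injective embedding of a presheaf. -/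
noncomputable abbrev ses (P : Cᵒᵖ ⥤ AddCommGrpCat.{u}) : ShortComplex (Cᵒᵖ ⥤ AddCommGrpCat.{u}) :=
  ShortComplex.mk (Injective.ι P) (cokernel.π (Injective.ι P)) (cokernel.condition _)

theorem ses_shortExact (P : Cᵒᵖ ⥤ AddCommGrpCat.{u}) : (ses P).ShortExact :=
  ShortComplex.ShortExact.mk' (ShortComplex.exact_cokernel _) (by dsimp; infer_instance) (by dsimp; infer_instance)

theorem cxShort (S : ShortComplex (Cᵒᵖ ⥤ AddCommGrpCat.{u})) (hS : S.ShortExact) :
    (S.map (CechEdge.cxFunctor Y)).ShortExact :=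
  GrothSS.cechPsh_shortExact Y S hS

/-- The connecting map of an injective embedding. -/
noncomputable def δI (P : Cᵒᵖ ⥤ AddCommGrpCat.{u}) (p : ℕ) :
    CohCx.cechH (ses P).X₃ Y p →+ CohCx.cechH P Y (p + 1) :=
  ((cxShort Y (ses P) (ses_shortExact P)).δ p (p + 1) rfl).hom

theorem cechHMap_comp {P Q R : Cᵒᵖ ⥤ AddCommGrpCat.{u}} (φ : P ⟶ Q) (ψ : Q ⟶ R) (p : ℕ)
    (x : CohCx.cechH P Y p) :
    CechEdge.cechHMap Y (φ ≫ ψ) p x = CechEdge.cechHMap Y ψ p (CechEdge.cechHMap Y φ p x) := by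
  simp only [CechEdge.cechHMap, Functor.map_comp, HomologicalComplex.homologyMap_comp]
  rfl

theorem cechHMap_id (P : Cᵒᵖ ⥤ AddCommGrpCat.{u}) (p : ℕ) (x : CohCx.cechH P Y p) :
    CechEdge.cechHMap Y (𝟙 P) p x = x := by
  simp only [CechEdge.cechHMap, CategoryTheory.Functor.map_id, HomologicalComplex.homologyMap_id]
  rfl

theorem δ_natural {S T : ShortComplex (Cᵒᵖ ⥤ AddCommGrpCat.{u})}
    (hS : (S.map (CechEdge.cxFunctor Y)).ShortExact) (hT : (T.map (CechEdge.cxFunctor Y)).ShortExact)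
    (Φ : S ⟶ T) (p : ℕ) (x : CohCx.cechH S.X₃ Y p) :
    CechEdge.cechHMap Y Φ.τ₁ (p + 1) ((hS.δ p (p + 1) rfl).hom x) =
      (hT.δ p (p + 1) rfl).hom (CechEdge.cechHMap Y Φ.τ₃ p x) :=
  ConcreteCategory.congr_hom
    (HomologicalComplex.HomologySequence.δ_naturality ((CechEdge.cxFunctor Y).mapShortComplex.map Φ) hS hT p (p + 1) rfl) x

theorem δI_surjective (P : Cᵒᵖ ⥤ AddCommGrpCat.{u}) (p : ℕ) : Function.Surjective (δI Y P p) := by
  have hS := cxShort Y (ses P) (ses_shortExact P)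
  have h0 : IsZero (CohCx.cechH (ses P).X₂ Y (p + 1)) :=
    Cech.isZero_cechH_of_injective_presheaf (Injective.under P) Y p
  have : Epi (hS.δ p (p + 1) rfl) := (hS.homology_exact₁ p (p + 1) rfl).epi_f (h0.eq_of_tgt _ _)
  exact (AddCommGrpCat.epi_iff_surjective _).1 this

theorem exists_of_δI_eq_zero (P : Cᵒᵖ ⥤ AddCommGrpCat.{u}) (p : ℕ) (y : CohCx.cechH (ses P).X₃ Y p)
    (hy : δI Y P p y = 0) : ∃ z, CechEdge.cechHMap Y (ses P).g p z = y :=
  (ShortComplex.ab_exact_iff _).1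
    ((cxShort Y (ses P) (ses_shortExact P)).homology_exact₃ p (p + 1) rfl) y hy

/-- Natural families in one degree. -/
def Nat' (p : ℕ) (e : ∀ P : Cᵒᵖ ⥤ AddCommGrpCat.{u}, CohCx.cechH P Y p →+ CohSite.HU (CechEdge.shf J P) p U) : Prop :=
  ∀ (P Q : Cᵒᵖ ⥤ AddCommGrpCat.{u}) (φ : P ⟶ Q) (x : CohCx.cechH P Y p),
    e Q (CechEdge.cechHMap Y φ p x) = CechEdge.HUmap (CechEdge.shfMap J φ) p U (e P x)

variable (J) in
/-- The type of natural families in one degree. -/
def Fam (p : ℕ) : Type (u + 1) :=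
  {e : ∀ P : Cᵒᵖ ⥤ AddCommGrpCat.{u}, CohCx.cechH P Y p →+ CohSite.HU (CechEdge.shf J P) p U // Nat' Y p e}

variable (J) in
/-- The sheafified embedding. -/
theorem ses_shf (P : Cᵒᵖ ⥤ AddCommGrpCat.{u}) :
    ((ses P).map (presheafToSheaf J AddCommGrpCat.{u})).ShortExact :=
  (ses_shortExact P).map_of_exact _

/-- Passing to the next degree, on elements of the source of `δ`. -/
noncomputable def stepAux {p : ℕ} (e : Fam J Y p) (P : Cᵒᵖ ⥤ AddCommGrpCat.{u}) :
    CohCx.cechH (ses P).X₃ Y p →+ CohSite.HU (CechEdge.shf J P) (p + 1) U :=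
  (CechEdge.extδ (ses_shf J P) U p).comp (e.1 (ses P).X₃)

theorem stepAux_eq {p : ℕ} (e : Fam J Y p) (P : Cᵒᵖ ⥤ AddCommGrpCat.{u}) {y y' : CohCx.cechH (ses P).X₃ Y p}
    (h : δI Y P p y = δI Y P p y') : stepAux Y e P y = stepAux Y e P y' := by
  obtain ⟨z, hz⟩ := exists_of_δI_eq_zero Y P p (y - y') (by rw [map_sub, h, sub_self])
  rw [← sub_eq_zero, ← map_sub, ← hz]
  change CechEdge.extδ (ses_shf J P) U p (e.1 _ (CechEdge.cechHMap Y (ses P).g p z)) = 0
  rw [e.2]
  exact extδ_HUmap_eq_zero (ses_shf J P) p _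

/-- The next degree. -/
noncomputable def stepHom {p : ℕ} (e : Fam J Y p) (P : Cᵒᵖ ⥤ AddCommGrpCat.{u}) :
    CohCx.cechH P Y (p + 1) →+ CohSite.HU (CechEdge.shf J P) (p + 1) U :=
  AddMonoidHom.mk' (fun x => stepAux Y e P (Function.surjInv (δI_surjective Y P p) x)) fun a b => by
    rw [← map_add]
    refine stepAux_eq Y e P ?_
    rw [map_add, Function.surjInv_eq (δI_surjective Y P p), Function.surjInv_eq (δI_surjective Y P p),
      Function.surjInv_eq (δI_surjective Y P p)]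

theorem stepHom_δI {p : ℕ} (e : Fam J Y p) (P : Cᵒᵖ ⥤ AddCommGrpCat.{u}) (y : CohCx.cechH (ses P).X₃ Y p) :
    stepHom Y e P (δI Y P p y) = stepAux Y e P y :=
  stepAux_eq Y e P (Function.surjInv_eq (δI_surjective Y P p) _)

/-- Morphisms of the embeddings. -/
noncomputable def sesMap {P Q : Cᵒᵖ ⥤ AddCommGrpCat.{u}} (φ : P ⟶ Q) : ses P ⟶ ses Q :=
  let ψ : Injective.under P ⟶ Injective.under Q := Injective.factorThru (φ ≫ Injective.ι Q) (Injective.ι P)
  { τ₁ := φ
    τ₂ := ψ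
    τ₃ := cokernel.map _ _ φ ψ (Injective.comp_factorThru _ _)
    comm₁₂ := (Injective.comp_factorThru _ _).symm
    comm₂₃ := (cokernel.π_desc _ _ _).symm }

theorem stepHom_natural {p : ℕ} (e : Fam J Y p) : Nat' Y (p + 1) (stepHom Y e) := by
  intro P Q φ x
  obtain ⟨y, rfl⟩ := δI_surjective Y P p x
  have h1 : CechEdge.cechHMap Y φ (p + 1) (δI Y P p y) = δI Y Q p (CechEdge.cechHMap Y (sesMap φ).τ₃ p y) :=
    δ_natural Y (cxShort Y _ (ses_shortExact P)) (cxShort Y _ (ses_shortExact Q)) (sesMap φ) p y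
  rw [h1, stepHom_δI, stepHom_δI]
  change CechEdge.extδ (ses_shf J Q) U p (e.1 _ (CechEdge.cechHMap Y (sesMap φ).τ₃ p y)) = _
  rw [e.2]
  exact (extδ_natural (ses_shf J P) (ses_shf J Q)
    ((presheafToSheaf J AddCommGrpCat.{u}).mapShortComplex.map (sesMap φ)) p _).symm

section Edge

variable (hY : Sieve.ofArrows (fun i => (Y i).left) (fun i => (Y i).hom) ∈ J U)

/-- `F(U) ≃ Ȟ⁰` for a sheaf. -/
noncomputable def toCechEquiv (F : Sheaf J AddCommGrpCat.{u}) :
    F.obj.obj (op U) ≃+ CohCx.cechH F.obj Y 0 :=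
  AddEquiv.ofBijective (CechEdge.toCech Y F.obj) (bijective_toCech_of_sheaf Y hY F)

/-- Degree zero. -/
noncomputable def zeroHom (P : Cᵒᵖ ⥤ AddCommGrpCat.{u}) :
    CohCx.cechH P Y 0 →+ CohSite.HU (CechEdge.shf J P) 0 U :=
  (CechEdge.sectH0 J U (CechEdge.shf J P)).toAddMonoidHom.comp
    ((toCechEquiv Y hY (CechEdge.shf J P)).symm.toAddMonoidHom.comp
      (CechEdge.cechHMap Y (toSheafify J P) 0))

theorem zeroHom_natural : Nat' Y 0 (zeroHom Y hY) := by
  intro P Q φ x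
  change CechEdge.sectH0 J U _ _ = CechEdge.HUmap _ 0 U (CechEdge.sectH0 J U _ _)
  rw [sectH0_natural]
  congr 1
  apply (toCechEquiv Y hY (CechEdge.shf J Q)).injective
  refine ((toCechEquiv Y hY (CechEdge.shf J Q)).apply_symm_apply _).trans ?_
  refine Eq.trans ?_ (toCech_natural Y (CechEdge.shfMap J φ).hom _)
  rw [← cechHMap_comp, toSheafify_naturality, cechHMap_comp]
  exact congrArg _ ((toCechEquiv Y hY (CechEdge.shf J P)).apply_symm_apply _).symm

theorem zeroHom_toCech (P : Cᵒᵖ ⥤ AddCommGrpCat.{u}) (s : P.obj (op U)) :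
    zeroHom Y hY P (CechEdge.toCech Y P s) =
      CechEdge.sectH0 J U (CechEdge.shf J P) (((toSheafify J P).app (op U)).hom s) := by
  change CechEdge.sectH0 J U _ _ = _
  congr 1
  apply (toCechEquiv Y hY (CechEdge.shf J P)).injective
  refine ((toCechEquiv Y hY (CechEdge.shf J P)).apply_symm_apply _).trans ?_
  exact toCech_natural Y (toSheafify J P) s

/-- The families in all degrees. -/
noncomputable def fam : ∀ p : ℕ, Fam J Y p
  | 0 => ⟨zeroHom Y hY, zeroHom_natural Y hY⟩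
  | p + 1 => ⟨stepHom Y (fam p), stepHom_natural Y (fam p)⟩

theorem isEdge_fam : CechEdge.IsEdge J Y (fun P p => (fam Y hY p).1 P) where
  cover := hY
  zero P s := zeroHom_toCech Y hY P s
  natural P Q φ p x := (fam Y hY p).2 P Q φ x
  delta S hS hC p x := by
    have := hS.mono_f
    have := hS.epi_g
    let ψ : S.X₂ ⟶ Injective.under S.X₁ := Injective.factorThru (Injective.ι S.X₁) S.f
    obtain ⟨χ, hχ⟩ := CokernelCofork.IsColimit.desc' hS.gIsCokernel (ψ ≫ cokernel.π (Injective.ι S.X₁)) (by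
      rw [← Category.assoc, Injective.comp_factorThru, cokernel.condition])
    let Φ : S ⟶ ses S.X₁ :=
      { τ₁ := 𝟙 _
        τ₂ := ψ
        τ₃ := χ
        comm₁₂ := by simp [ψ]
        comm₂₃ := hχ.symm }
    have h1 : (hC.δ p (p + 1) rfl).hom x = δI Y S.X₁ p (CechEdge.cechHMap Y χ p x) :=
      (cechHMap_id Y S.X₁ (p + 1) _).symm.trans
        (δ_natural Y hC (cxShort Y _ (ses_shortExact S.X₁)) Φ p x)
    change stepHom Y (fam Y hY p) S.X₁ _ = _
    rw [h1, stepHom_δI]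
    change CechEdge.extδ (ses_shf J S.X₁) U p ((fam Y hY p).1 _ (CechEdge.cechHMap Y χ p x)) = _
    rw [(fam Y hY p).2]
    refine (extδ_natural (hS.map_of_exact (presheafToSheaf J AddCommGrpCat.{u})) (ses_shf J S.X₁)
      ((presheafToSheaf J AddCommGrpCat.{u}).mapShortComplex.map Φ) p _).symm.trans ?_
    refine (congrArg (fun m => CechEdge.HUmap m (p + 1) U _)
      ((presheafToSheaf J AddCommGrpCat.{u}).map_id S.X₁)).trans ?_
    exact HUmap_id _ _ _

end Edge

/-! ### uniqueness and injectivity -/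

theorem HUmap_zero_injective {F G : Sheaf J AddCommGrpCat.{u}} (ψ : F ⟶ G) [Mono ψ] :
    Function.Injective (CechEdge.HUmap ψ 0 U) := fun x y h => by
  obtain ⟨a, rfl⟩ := (CechEdge.sectH0 J U F).surjective x
  obtain ⟨b, rfl⟩ := (CechEdge.sectH0 J U F).surjective y
  rw [sectH0_natural, sectH0_natural] at h
  have : Mono ψ.hom := inferInstanceAs (Mono ((sheafToPresheaf J AddCommGrpCat.{u}).map ψ))
  exact congrArg _ ((AddCommGrpCat.mono_iff_injective (ψ.hom.app (op U))).1 inferInstance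
    ((CechEdge.sectH0 J U G).injective h))

theorem edge_unique {e e' : ∀ (P : Cᵒᵖ ⥤ AddCommGrpCat.{u}) (p : ℕ),
      CohCx.cechH P Y p →+ CohSite.HU (CechEdge.shf J P) p U}
    (he : CechEdge.IsEdge J Y e) (he' : CechEdge.IsEdge J Y e') : e = e' := by
  funext P p
  induction p generalizing P with
  | zero =>
    ext x
    have : Mono (CechEdge.shfMap J (ses P).f) := (ses_shf J P).mono_f
    apply HUmap_zero_injective (CechEdge.shfMap J (ses P).f)
    rw [← he.natural, ← he'.natural]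
    obtain ⟨s, hs⟩ := surjective_toCech_of_injective Y (Injective.under P) (CechEdge.cechHMap Y (ses P).f 0 x)
    rw [← hs, he.zero, he'.zero]
  | succ p ih =>
    ext x
    obtain ⟨y, rfl⟩ := δI_surjective Y P p x
    refine (he.delta (ses P) (ses_shortExact P) (cxShort Y _ (ses_shortExact P)) p y).trans
      (Eq.trans ?_ (he'.delta (ses P) (ses_shortExact P) (cxShort Y _ (ses_shortExact P)) p y).symm)
    rw [ih]

end GrothLib.CechEdge25
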