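import Groth.Agent.CechEdge25.Basic

/-! # Comparison maps at sheaves: acyclic coverings, degree one, refinements -/

set_option autoImplicit false

universe u

open CategoryTheory CategoryTheory.Limits Opposite Abelian

namespace GrothLib.CechEdge25

open GrothLib

attribute [local instance] SheafCoh.enoughInjectivesPsh

variable {C : Type u} [SmallCategory C] [HasPullbacks C] {J : GrothendieckTopology C} {U : C} {ι : Type u}
  (Y : ι → Over U)

theorem cechHMap0_injective {P Q : Cᵒᵖ ⥤ AddCommGrpCat.{u}} (φ : P ⟶ Q) [Mono φ] :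
    Function.Injective (CechEdge.cechHMap Y φ 0) := by
  intro x x' h
  have hπ := fun R : Cᵒᵖ ⥤ AddCommGrpCat.{u} =>
    ConcreteCategory.bijective_of_isIso ((CechEdge.cx R Y).homologyπ 0)
  obtain ⟨z, rfl⟩ := (hπ P).2 x
  obtain ⟨z', rfl⟩ := (hπ P).2 x'
  let F := (CechEdge.cxFunctor Y).map φ
  have hnat : ∀ z, CechEdge.cechHMap Y φ 0 ((CechEdge.cx P Y).homologyπ 0 z) =
      (CechEdge.cx Q Y).homologyπ 0 (HomologicalComplex.cyclesMap F 0 z) := fun z =>
    ConcreteCategory.congr_hom (HomologicalComplex.homologyπ_naturality F 0) z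
  rw [hnat, hnat] at h
  have h2 := congrArg ((CechEdge.cx Q Y).iCycles 0) ((hπ Q).1 h)
  have hi : ∀ z, (CechEdge.cx Q Y).iCycles 0 (HomologicalComplex.cyclesMap F 0 z) =
      ((GrothSS.cechPsh Y).map φ).f 0 ((CechEdge.cx P Y).iCycles 0 z) := fun z =>
    ConcreteCategory.congr_hom (HomologicalComplex.cyclesMap_i F 0) z
  rw [hi, hi] at h2
  congr 1
  apply (AddCommGrpCat.mono_iff_injective ((CechEdge.cx P Y).iCycles 0)).1 inferInstance
  refine GrothSS.pext Y fun a => ?_
  apply (AddCommGrpCat.mono_iff_injective (φ.app (op (Cech.obj Y a).left))).1 inferInstance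
  rw [← GrothSS.cech_ev_map, ← GrothSS.cech_ev_map]
  exact congrArg (GrothSS.pev Y Q a) h2

theorem cxMap_isIso {P Q : Cᵒᵖ ⥤ AddCommGrpCat.{u}} (φ : P ⟶ Q)
    (h : ∀ (n : ℕ) (a : Fin (n + 1) → ι), Function.Bijective (φ.app (op (Cech.obj Y a).left))) :
    IsIso ((CechEdge.cxFunctor Y).map φ) := by
  have : ∀ n, IsIso (((CechEdge.cxFunctor Y).map φ).f n) := fun n => by
    rw [ConcreteCategory.isIso_iff_bijective]
    refine ⟨fun (x : ((GrothSS.cechPsh Y).obj P).X n) (y : ((GrothSS.cechPsh Y).obj P).X n) hxy => ?_,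
      fun (x : ((GrothSS.cechPsh Y).obj Q).X n) => ?_⟩
    · refine GrothSS.pext Y fun a => (h n a).1 ?_
      rw [← GrothSS.cech_ev_map, ← GrothSS.cech_ev_map]
      exact congrArg (GrothSS.pev Y Q a) hxy
    · choose r hr using fun a => (h n a).2 (GrothSS.pev Y Q a x)
      refine ⟨GrothSS.pmk Y P r, GrothSS.pext Y fun a => ?_⟩
      refine (GrothSS.cech_ev_map Y φ a _).trans ?_
      rw [GrothSS.pev_pmk]
      exact hr a
  exact HomologicalComplex.Hom.isIso_of_components _

theorem bijective_HUmap {F G : Sheaf J AddCommGrpCat.{u}} (ψ : F ⟶ G) [IsIso ψ] (p : ℕ) :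
    Function.Bijective (CechEdge.HUmap ψ p U) :=
  Function.bijective_iff_has_inverse.2 ⟨CechEdge.HUmap (inv ψ) p U,
    fun x => by rw [← HUmap_comp, IsIso.hom_inv_id, HUmap_id],
    fun x => by rw [← HUmap_comp, IsIso.inv_hom_id, HUmap_id]⟩

section Sheaf

variable (F : Sheaf J AddCommGrpCat.{u})

/-- An embedding into an injective sheaf, read on presheaves. -/
noncomputable abbrev shSes : ShortComplex (Cᵒᵖ ⥤ AddCommGrpCat.{u}) :=
  ShortComplex.mk (Injective.ι F).hom (cokernel.π (Injective.ι F).hom) (cokernel.condition _)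

theorem shSes_shortExact : (shSes F).ShortExact := by
  have : Mono (Injective.ι F).hom :=
    inferInstanceAs (Mono ((sheafToPresheaf J AddCommGrpCat.{u}).map (Injective.ι F)))
  exact ShortComplex.ShortExact.mk' (ShortComplex.exact_cokernel _) (by dsimp; infer_instance)
    (by dsimp; infer_instance)

/-- The comparison with the quotient sheaf. -/
noncomputable def toQuot : (shSes F).X₃ ⟶ (cokernel (Injective.ι F)).obj :=
  cokernel.desc _ (cokernel.π (Injective.ι F)).hom
    (congrArg (fun h : F ⟶ _ => h.hom) (cokernel.condition (Injective.ι F)))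

theorem π_toQuot : (shSes F).g ≫ toQuot F = (cokernel.π (Injective.ι F)).hom :=
  cokernel.π_desc _ _ _

theorem shf_exact :
    (ShortComplex.mk (Injective.ι F) (cokernel.π (Injective.ι F)) (cokernel.condition _)).ShortExact :=
  ShortComplex.ShortExact.mk' (ShortComplex.exact_cokernel _) (by dsimp; infer_instance) (by dsimp; infer_instance)

instance mono_toQuot : Mono (toQuot F) := by
  have := (shf_exact F).mono_f
  exact ((shf_exact F).exact.map_of_mono_of_preservesKernel (sheafToPresheaf J AddCommGrpCat.{u})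
    inferInstance inferInstance).mono_cokernelDesc

theorem mono_toSheafify_quot : Mono (toSheafify J (shSes F).X₃) := by
  have : Mono (toSheafify J (shSes F).X₃ ≫ sheafifyLift J (toQuot F) (cokernel (Injective.ι F)).property) := by
    rw [toSheafify_sheafifyLift]; infer_instance
  exact mono_of_mono _ (sheafifyLift J (toQuot F) (cokernel (Injective.ι F)).property)

theorem δ_surjective (p : ℕ) :
    Function.Surjective ((cxShort Y (shSes F) (shSes_shortExact F)).δ p (p + 1) rfl).hom := by
  have hS := cxShort Y (shSes F) (shSes_shortExact F)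
  have h0 : IsZero (CohCx.cechH (shSes F).X₂ Y (p + 1)) :=
    @Cech.isZero_cechH_of_injective_presheaf _ _ _ _ _
      (Cech.injective_presheaf (Injective.under F) (hI := Injective.injective_under F)) _ Y p
  have : Epi (hS.δ p (p + 1) rfl) := (hS.homology_exact₁ p (p + 1) rfl).epi_f (h0.eq_of_tgt _ _)
  exact (AddCommGrpCat.epi_iff_surjective _).1 this

/-- The comparison of the sheafified presheaf sequence with the sequence of sheaves. -/
noncomputable def shfCompare :
    (shSes F).map (presheafToSheaf J AddCommGrpCat.{u}) ⟶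
      ShortComplex.mk (Injective.ι F) (cokernel.π (Injective.ι F)) (cokernel.condition _) where
  τ₁ := (sheafificationAdjunction J AddCommGrpCat.{u}).counit.app F
  τ₂ := (sheafificationAdjunction J AddCommGrpCat.{u}).counit.app (Injective.under F)
  τ₃ := ((sheafificationAdjunction J AddCommGrpCat.{u}).homEquiv _ _).symm (toQuot F)
  comm₁₂ := ((sheafificationAdjunction J AddCommGrpCat.{u}).counit.naturality (Injective.ι F)).symm
  comm₂₃ := by
    rw [Adjunction.homEquiv_counit]
    change _ ≫ cokernel.π (Injective.ι F) =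
      (presheafToSheaf J AddCommGrpCat.{u}).map (shSes F).g ≫ _ ≫ _
    rw [← Functor.map_comp_assoc, π_toQuot]
    exact ((sheafificationAdjunction J AddCommGrpCat.{u}).counit.naturality (cokernel.π (Injective.ι F))).symm

theorem isIso_shfCompare_τ₃ : IsIso (shfCompare F).τ₃ := by
  let S := (shSes F).map (presheafToSheaf J AddCommGrpCat.{u})
  have h1 : S.ShortExact := (shSes_shortExact F).map_of_exact _
  have := h1.epi_g
  have : IsIso (sheafificationAdjunction J AddCommGrpCat.{u}).counit := inferInstance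
  have hc : IsIso (shfCompare F).τ₁ := inferInstanceAs (IsIso ((sheafificationAdjunction J AddCommGrpCat.{u}).counit.app F))
  have hm : IsIso (shfCompare F).τ₂ :=
    inferInstanceAs (IsIso ((sheafificationAdjunction J AddCommGrpCat.{u}).counit.app (Injective.under F)))
  let i := h1.gIsCokernel.coconePointsIsoOfNatIso (cokernelIsCokernel (Injective.ι F))
    (parallelPair.ext (asIso (shfCompare F).τ₁) (asIso (shfCompare F).τ₂) (shfCompare F).comm₁₂.symm (by simp))
  have he : (shfCompare F).τ₃ = i.hom := by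
    rw [← cancel_epi S.g]
    refine (shfCompare F).comm₂₃.symm.trans ?_
    exact (IsColimit.comp_coconePointsIsoOfNatIso_hom h1.gIsCokernel (cokernelIsCokernel (Injective.ι F))
      (parallelPair.ext (asIso (shfCompare F).τ₁) (asIso (shfCompare F).τ₂) (shfCompare F).comm₁₂.symm (by simp))
      WalkingParallelPair.one).symm
  rw [he]
  infer_instance

end Sheaf

variable {Y}
variable {e : ∀ (P : Cᵒᵖ ⥤ AddCommGrpCat.{u}) (p : ℕ), CohCx.cechH P Y p →+ CohSite.HU (CechEdge.shf J P) p U}

theorem edgeSh_natural (he : CechEdge.IsEdge J Y e) {F G : Sheaf J AddCommGrpCat.{u}} (φ : F ⟶ G) (p : ℕ)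
    (x : CohCx.cechH F.obj Y p) :
    CechEdge.edgeSh e G p (CechEdge.cechHMap Y φ.hom p x) = CechEdge.HUmap φ p U (CechEdge.edgeSh e F p x) := by
  change CechEdge.HUmap _ p U (e G.obj p _) = CechEdge.HUmap φ p U (CechEdge.HUmap _ p U (e F.obj p x))
  rw [he.natural, ← HUmap_comp, ← HUmap_comp]
  exact congrArg (fun m => CechEdge.HUmap m p U (e F.obj p x))
    ((sheafificationAdjunction J AddCommGrpCat.{u}).counit.naturality φ)

theorem edge_zero_injective (he : CechEdge.IsEdge J Y e) (P : Cᵒᵖ ⥤ AddCommGrpCat.{u}) [Mono (toSheafify J P)] :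
    Function.Injective (e P 0) := by
  rw [edge_unique Y he (isEdge_fam Y he.cover)]
  exact ((CechEdge.sectH0 J U _).injective.comp (toCechEquiv Y he.cover _).symm.injective).comp
    (cechHMap0_injective Y (toSheafify J P))

theorem edgeSh_zero_bijective (he : CechEdge.IsEdge J Y e) (F : Sheaf J AddCommGrpCat.{u}) :
    Function.Bijective (CechEdge.edgeSh e F 0) := by
  refine (bijective_HUmap _ 0).comp ⟨?_, ?_⟩
  · have := isIso_toSheafify J F.property
    exact edge_zero_injective he F.obj
  · intro z
    obtain ⟨t, rfl⟩ := (CechEdge.sectH0 J U _).surjective z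
    have := isIso_toSheafify J F.property
    obtain ⟨s, rfl⟩ := (ConcreteCategory.bijective_of_isIso ((toSheafify J F.obj).app (op U))).2 t
    exact ⟨_, he.zero F.obj s⟩

variable (Y) in
/-- Acyclicity on the finite products of the family. -/
def Acyc (F : Sheaf J AddCommGrpCat.{u}) : Prop :=
  ∀ (n : ℕ) (a : Fin (n + 1) → ι) (q : ℕ), Subsingleton (CohSite.HU F (q + 1) (Cech.obj Y a).left)

theorem acyc_quot (F : Sheaf J AddCommGrpCat.{u}) (h : Acyc Y F) : Acyc Y (cokernel (Injective.ι F)) :=
  fun n a q => by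
    refine ⟨fun x y => ?_⟩
    let V := (Cech.obj Y a).left
    let δ := CechEdge.extδ (shf_exact F) V (q + 1)
    have : Subsingleton (Ext (CohCx.freeSheaf J V) (Injective.under F) (q + 1)) :=
      Ext.subsingleton_of_injective _ _ _
    suffices hinj : ∀ z, δ z = 0 → z = 0 by
      refine eq_of_sub_eq_zero (hinj _ ?_)
      exact @Subsingleton.elim _ (h n a (q + 1)) _ _
    intro z hz
    obtain ⟨w, hw⟩ := Ext.covariant_sequence_exact₃ (CohCx.freeSheaf J V) (shf_exact F) z rfl hz
    rw [← hw, Subsingleton.elim w 0, Ext.zero_comp]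
    rfl

theorem bijective_toQuot_app (F : Sheaf J AddCommGrpCat.{u}) (h : Acyc Y F) (n : ℕ) (a : Fin (n + 1) → ι) :
    Function.Bijective ((toQuot F).app (op (Cech.obj Y a).left)) := by
  refine ⟨(AddCommGrpCat.mono_iff_injective _).1 inferInstance, fun t => ?_⟩
  let V := (Cech.obj Y a).left
  obtain ⟨w, hw⟩ := Ext.covariant_sequence_exact₃ (CohCx.freeSheaf J V) (shf_exact F)
    (CechEdge.sectH0 J V _ t) rfl (@Subsingleton.elim _ (h n a 0) _ _)
  obtain ⟨s, rfl⟩ := (CechEdge.sectH0 J V _).surjective w
  refine ⟨(shSes F).g.app (op V) s, ?_⟩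
  have h2 : CechEdge.sectH0 J V _ ((cokernel.π (Injective.ι F)).hom.app (op V) s) = CechEdge.sectH0 J V _ t :=
    (sectH0_natural (cokernel.π (Injective.ι F)) s).symm.trans hw
  refine Eq.trans ?_ ((CechEdge.sectH0 J V _).injective h2)
  exact ConcreteCategory.congr_hom (NatTrans.congr_app (π_toQuot F) (op V)) s

theorem bijective_edge_quot (he : CechEdge.IsEdge J Y e) (F : Sheaf J AddCommGrpCat.{u}) (h : Acyc Y F) (p : ℕ)
    (hQ : Function.Bijective (CechEdge.edgeSh e (cokernel (Injective.ι F)) p)) :
    Function.Bijective (e (shSes F).X₃ p) := by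
  have := cxMap_isIso Y (toQuot F) (bijective_toQuot_app F h)
  have h1 : Function.Bijective (CechEdge.cechHMap Y (toQuot F) p) :=
    ConcreteCategory.bijective_of_isIso (HomologicalComplex.homologyMap ((CechEdge.cxFunctor Y).map (toQuot F)) p)
  have := isIso_shfCompare_τ₃ F
  have heq : ∀ x, CechEdge.edgeSh e (cokernel (Injective.ι F)) p (CechEdge.cechHMap Y (toQuot F) p x) =
      CechEdge.HUmap (shfCompare F).τ₃ p U (e (shSes F).X₃ p x) := fun x => by
    change CechEdge.HUmap _ p U (e _ p _) = _
    rw [he.natural, ← HUmap_comp]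
    exact congrArg (fun m => CechEdge.HUmap m p U (e (shSes F).X₃ p x))
      (Adjunction.homEquiv_counit (sheafificationAdjunction J AddCommGrpCat.{u}) _ _ _).symm
  exact (Function.Bijective.of_comp_iff' (bijective_HUmap (shfCompare F).τ₃ p) (e (shSes F).X₃ p)).1
    (by rw [show (⇑(CechEdge.HUmap (shfCompare F).τ₃ p U) ∘ ⇑(e (shSes F).X₃ p)) = _ from (funext heq).symm]; exact hQ.comp h1)

theorem edgeSh_succ_bijective (he : CechEdge.IsEdge J Y e) (F : Sheaf J AddCommGrpCat.{u}) (p : ℕ)
    (hsurjI : Function.Surjective (CechEdge.edgeSh e (Injective.under F) p))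
    (hQinj : Function.Injective (e (shSes F).X₃ p)) :
    Function.Injective (CechEdge.edgeSh e F (p + 1)) ∧
      (Function.Surjective (e (shSes F).X₃ p) → Function.Surjective (CechEdge.edgeSh e F (p + 1))) := by
  have hS := shSes_shortExact F
  have hC := cxShort Y (shSes F) hS
  have hS' : ((shSes F).map (presheafToSheaf J AddCommGrpCat.{u})).ShortExact := hS.map_of_exact _
  have hIe : Function.Surjective (e (Injective.under F).obj p) :=
    (Function.Surjective.of_comp_iff' (bijective_HUmap _ p) _).1 hsurjI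
  have hε := bijective_HUmap (U := U) ((sheafificationAdjunction J AddCommGrpCat.{u}).counit.app F) (p + 1)
  refine ⟨(injective_iff_map_eq_zero _).2 fun x hx => ?_, fun hQs => hε.2.comp fun z => ?_⟩
  · obtain ⟨y, rfl⟩ := δ_surjective Y F p x
    have h0 : e (shSes F).X₁ (p + 1) ((hC.δ p (p + 1) rfl).hom y) = 0 := hε.1 (hx.trans (map_zero _).symm)
    rw [he.delta (shSes F) hS hC] at h0
    obtain ⟨w, hw⟩ := Ext.covariant_sequence_exact₃ (CohCx.freeSheaf J U) hS' (e (shSes F).X₃ p y) rfl h0
    obtain ⟨v, rfl⟩ := hIe w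
    have hy : y = CechEdge.cechHMap Y (shSes F).g p v :=
      hQinj (hw.symm.trans (he.natural _ _ (shSes F).g p v).symm)
    rw [hy]
    exact ConcreteCategory.congr_hom (hC.comp_δ p (p + 1) rfl) v
  · have : Subsingleton (CohSite.HU (CechEdge.shf J (shSes F).X₂) (p + 1) U) :=
      @Function.Injective.subsingleton _ _ _
        (bijective_HUmap (U := U) ((sheafificationAdjunction J AddCommGrpCat.{u}).counit.app (Injective.under F)) (p + 1)).1
        (Ext.subsingleton_of_injective (CohCx.freeSheaf J U) (Injective.under F) p)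
    obtain ⟨w, hw⟩ := Ext.covariant_sequence_exact₁ (CohCx.freeSheaf J U) hS' z
      (@Subsingleton.elim _ this _ _) rfl
    obtain ⟨y, rfl⟩ := hQs w
    exact ⟨_, (he.delta (shSes F) hS hC p y).trans hw⟩

theorem edgeSh_bijective (he : CechEdge.IsEdge J Y e) (p : ℕ) (F : Sheaf J AddCommGrpCat.{u}) (h : Acyc Y F) :
    Function.Bijective (CechEdge.edgeSh e F p) := by
  induction p generalizing F with
  | zero => exact edgeSh_zero_bijective he F
  | succ p ih =>
    have hQ := bijective_edge_quot he F h p (ih _ (acyc_quot F h))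
    have hI : Function.Surjective (CechEdge.edgeSh e (Injective.under F) p) :=
      (ih _ fun n a q => Ext.subsingleton_of_injective _ _ _).2
    obtain ⟨h1, h2⟩ := edgeSh_succ_bijective he F p hI hQ.1
    exact ⟨h1, h2 hQ.2⟩

theorem edgeSh_one_injective (he : CechEdge.IsEdge J Y e) (F : Sheaf J AddCommGrpCat.{u}) :
    Function.Injective (CechEdge.edgeSh e F 1) := by
  have := mono_toSheafify_quot F
  exact (edgeSh_succ_bijective he F 0 (edgeSh_zero_bijective he _).2 (edge_zero_injective he _)).1

/-! ### refinement -/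

section Refine

variable {κ : Type u} {Y' : κ → Over U} (f : FormalCoproduct.mk ι Y ⟶ FormalCoproduct.mk κ Y')

/-- The refinement map as a natural transformation of complexes. -/
noncomputable def refineNat : CechEdge.cxFunctor Y' ⟶ CechEdge.cxFunctor Y where
  app P := CohCx.cechRefine P f
  naturality P Q φ := by
    change (AlgebraicTopology.alternatingCofaceMapComplex _).map _ ≫
        (AlgebraicTopology.alternatingCofaceMapComplex _).map _ =
      (AlgebraicTopology.alternatingCofaceMapComplex _).map _ ≫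
        (AlgebraicTopology.alternatingCofaceMapComplex _).map _
    rw [← Functor.map_comp, ← Functor.map_comp]
    congr 1
    exact (((Functor.whiskeringLeft _ _ _).map (NatTrans.rightOp (FormalCoproduct.cechFunctor.map f))).naturality
      ((FormalCoproduct.evalOp.{u} (Over U) AddCommGrpCat.{u}).map (Functor.whiskerLeft (Over.forget U).op φ)))

/-- The refinement map on Čech cohomology. -/
noncomputable def refineH (P : Cᵒᵖ ⥤ AddCommGrpCat.{u}) (p : ℕ) :
    CohCx.cechH P Y' p →+ CohCx.cechH P Y p :=
  (HomologicalComplex.homologyMap ((refineNat f).app P) p).hom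

theorem refineH_toCech (P : Cᵒᵖ ⥤ AddCommGrpCat.{u}) (s : P.obj (op U)) :
    refineH f P 0 (CechEdge.toCech Y' P s) = CechEdge.toCech Y P s := by
  let ρ := CohCx.cechRefine P f
  have key : CechEdge.toCech₀ P Y' ≫ ρ.f 0 = CechEdge.toCech₀ P Y := by
    ext t
    refine GrothSS.pext Y fun a => ?_
    refine Eq.trans ?_ (pev_toCech₀ Y P a t).symm
    refine (ConcreteCategory.congr_hom (Pi.lift_π _ _) (CechEdge.toCech₀ P Y' t)).trans ?_
    refine (congrArg _ (pev_toCech₀ Y' P ((FormalCoproduct.cechFunctor.map f).app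
      (op (SimplexCategory.mk 0)) |>.f a) t)).trans ?_
    change (P.map _ ≫ P.map _) t = _
    refine (ConcreteCategory.congr_hom (P.map_comp _ _).symm t).trans ?_
    exact congrArg (fun g => P.map g t) (congrArg Quiver.Hom.op
      (Over.w (((FormalCoproduct.cechFunctor.map f).app (op (SimplexCategory.mk 0))).φ a)))
  have e1 : CechEdge.toCycles P Y' ≫ HomologicalComplex.cyclesMap ρ 0 = CechEdge.toCycles P Y := by
    refine (cancel_mono ((CechEdge.cx P Y).iCycles 0)).1 ((Category.assoc _ _ _).trans ?_)
    refine (congrArg (CechEdge.toCycles P Y' ≫ ·) (HomologicalComplex.cyclesMap_i ρ 0)).trans ?_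
    refine (Category.assoc _ _ _).symm.trans ?_
    exact ((congrArg (· ≫ ρ.f 0) (CechEdge.toCycles_i P Y')).trans key).trans (CechEdge.toCycles_i P Y).symm
  refine (ConcreteCategory.congr_hom (HomologicalComplex.homologyπ_naturality ρ 0) (CechEdge.toCycles P Y' s)).trans ?_
  exact congrArg ((CechEdge.cx P Y).homologyπ 0) (ConcreteCategory.congr_hom e1 s)

theorem refine_natural {P Q : Cᵒᵖ ⥤ AddCommGrpCat.{u}} (φ : P ⟶ Q) (p : ℕ) (x : CohCx.cechH P Y' p) :
    refineH f Q p (CechEdge.cechHMap Y' φ p x) = CechEdge.cechHMap Y φ p (refineH f P p x) := by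
  change (HomologicalComplex.homologyMap ((CechEdge.cxFunctor Y').map φ) p ≫
      HomologicalComplex.homologyMap ((refineNat f).app Q) p) x =
    (HomologicalComplex.homologyMap ((refineNat f).app P) p ≫
      HomologicalComplex.homologyMap ((CechEdge.cxFunctor Y).map φ) p) x
  rw [← HomologicalComplex.homologyMap_comp, ← HomologicalComplex.homologyMap_comp, (refineNat f).naturality]

include f in
theorem isEdge_comp_refine (hY' : Sieve.ofArrows (fun i => (Y' i).left) (fun i => (Y' i).hom) ∈ J U)
    (he : CechEdge.IsEdge J Y e) :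
    CechEdge.IsEdge J Y' (fun P p => (e P p).comp (refineH f P p)) where
  cover := hY'
  zero P s := (congrArg (e P 0) (refineH_toCech f P s)).trans (he.zero P s)
  natural P Q φ p x := (congrArg (e Q p) (refine_natural f φ p x)).trans (he.natural P Q φ p _)
  delta S hS hC p x := by
    have hC' := cxShort Y S hS
    refine Eq.trans (congrArg (e S.X₁ (p + 1)) ?_) (he.delta S hS hC' p _)
    exact ConcreteCategory.congr_hom (HomologicalComplex.HomologySequence.δ_naturality
      (S.mapNatTrans (refineNat f)) hC hC' p (p + 1) rfl) x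

end Refine

end GrothLib.CechEdge25
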