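import Groth.Agent.CechEdge25.Basic

/-! # The sheaf condition through degree zero Čech cohomology -/

set_option autoImplicit false

universe u

open CategoryTheory CategoryTheory.Limits Opposite

namespace GrothLib.CechEdge25

open GrothLib

variable {C : Type u} [SmallCategory C] [HasPullbacks C] {U : C} {ι : Type u} (Y : ι → Over U)

theorem pev_face (P : Cᵒᵖ ⥤ AddCommGrpCat.{u}) (j : Fin 2) (c : (CechEdge.cx P Y).X 0) (b : Fin 2 → ι) :
    ∃ g : Cech.obj Y b ⟶ Cech.obj Y (b ∘ j.succAbove),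
      GrothSS.pev Y P b (CechEdge.face P Y j c) = P.map g.left.op (GrothSS.pev Y P (b ∘ j.succAbove) c) :=
  ⟨((FormalCoproduct.mk ι Y).cech.map (SimplexCategory.δ j).op).φ b,
    ConcreteCategory.congr_hom (Pi.lift_π _ b) c⟩

variable (J : GrothendieckTopology C)

theorem isSheaf_of_bijective_toCech (P : Cᵒᵖ ⥤ AddCommGrpCat.{u})
    (h : ∀ (U : C) (ι : Type u) (Y : ι → Over U),
      Sieve.ofArrows (fun i => (Y i).left) (fun i => (Y i).hom) ∈ J U →
        Function.Bijective (CechEdge.toCech Y P)) :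
    Presheaf.IsSheaf J P := by
  rw [Presheaf.isSheaf_iff_isSheaf_forget J P (forget AddCommGrpCat.{u}), isSheaf_iff_isSheaf_of_type]
  intro U S hS x hx
  let Y : (Σ V : C, {f : V ⟶ U // S f}) → Over U := fun i => Over.mk i.2.1
  have hY : Sieve.ofArrows (fun i => (Y i).left) (fun i => (Y i).hom) ∈ J U :=
    J.superset_covering (fun V f hf => Sieve.ofArrows_mk (fun i => (Y i).left) (fun i => (Y i).hom) ⟨V, f, hf⟩) hS
  have hmem : ∀ {n : ℕ} (a : Fin (n + 1) → _), S (Cech.obj Y a).hom := fun a => by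
    rw [← Over.w (Pi.π (fun k => Y (a k)) 0)]
    exact S.downward_closed (a 0).2.2 _
  have key : ∀ {V W : C} (g : W ⟶ V) (f : V ⟶ U) (hf : S f) (f' : W ⟶ U) (hf' : S f'), g ≫ f = f' →
      P.map g.op (x f hf) = x f' hf' := fun g f hf f' hf' e => by
    subst e
    exact ((Presieve.compatible_iff_sieveCompatible x).1 hx f g hf).symm
  let r : ∀ a : Fin (0 + 1) → _, P.obj (op (Cech.obj Y a).left) := fun a => x (Cech.obj Y a).hom (hmem a)
  let c : (CechEdge.cx P Y).X 0 := GrothSS.pmk Y P r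
  have hf : ∀ (j : Fin 2) (b : Fin 2 → _), GrothSS.pev Y P b (CechEdge.face P Y j c) =
      x (Cech.obj Y b).hom (hmem b) := fun j b => by
    obtain ⟨g, hg⟩ := pev_face Y P j c b
    rw [hg]
    refine (congrArg (P.map g.left.op) (GrothSS.pev_pmk Y P r _)).trans ?_
    exact key g.left _ (hmem _) _ _ (Over.w g)
  have hc : (CechEdge.cx P Y).d 0 1 c = 0 := by
    have e : CechEdge.face P Y 0 c = CechEdge.face P Y 1 c :=
      GrothSS.pext Y fun b => (hf 0 b).trans (hf 1 b).symm
    rw [CechEdge.cx_d_zero_one, Fin.sum_univ_two]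
    simp only [Fin.val_zero, Fin.val_one, pow_zero, pow_one, one_smul, neg_smul]
    change CechEdge.face P Y 0 c + -(CechEdge.face P Y 1 c) = 0
    rw [e, add_neg_cancel]
  let K := CechEdge.cx P Y
  obtain ⟨z, hz⟩ : ∃ z, K.iCycles 0 z = c :=
    ((ShortComplex.ab_exact_iff _).1
      (ShortComplex.exact_of_f_is_kernel (ShortComplex.mk (K.iCycles 0) (K.d 0 1) (K.iCycles_d 0 1))
        (K.cyclesIsKernel 0 1 (by simp)))) c hc
  obtain ⟨s, hs⟩ := (h U _ Y hY).2 (K.homologyπ 0 z)
  have hs' : CechEdge.toCech₀ P Y s = c := by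
    have h1 := (ConcreteCategory.bijective_of_isIso (K.homologyπ 0)).1 hs
    rw [← hz, ← h1]
    exact (ConcreteCategory.congr_hom (CechEdge.toCycles_i P Y) s).symm
  refine ⟨s, fun V f hf' => ?_, fun s' hs'' => ?_⟩
  · let i : Σ V : C, {f : V ⟶ U // S f} := ⟨V, f, hf'⟩
    let σ : Y i ⟶ Cech.obj Y (fun _ : Fin (0 + 1) => i) := Pi.lift fun _ => 𝟙 (Y i)
    have h1 := congrArg (GrothSS.pev Y P (fun _ : Fin (0 + 1) => i)) hs'
    rw [pev_toCech₀, GrothSS.pev_pmk] at h1
    change P.map f.op s = _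
    have e1 : P.map f.op = P.map (Cech.obj Y (fun _ : Fin (0 + 1) => i)).hom.op ≫ P.map σ.left.op := by
      rw [← P.map_comp, ← op_comp]
      exact congrArg (fun g => P.map (Quiver.Hom.op g)) (Over.w σ).symm
    refine (ConcreteCategory.congr_hom e1 s).trans ?_
    exact (congrArg (P.map σ.left.op) h1).trans (key σ.left _ (hmem _) _ _ (Over.w σ))
  · refine (h U _ Y hY).1 (Eq.trans ?_ hs.symm)
    refine congrArg (K.homologyπ 0) ((AddCommGrpCat.mono_iff_injective (K.iCycles 0)).1 inferInstance ?_)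
    refine (ConcreteCategory.congr_hom (CechEdge.toCycles_i P Y) s').trans (Eq.trans ?_ hz.symm)
    refine GrothSS.pext Y fun a => ?_
    rw [pev_toCech₀]
    exact (hs'' (Cech.obj Y a).hom (hmem a)).trans (GrothSS.pev_pmk Y P r a).symm

end GrothLib.CechEdge25
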